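import Mathlib

/-!
# Permutations of six letters (helper541)

* `iota : A₅ →* A₆`, the stabilizer of the point 5; cycle types;
* transitivity;
* elements of order 5.
-/

set_option autoImplicit false

namespace Cfsg.Agent.H541.SixTwo

open Equiv Equiv.Perm

/-- `Fin 5` as the points of `Fin 6` different from 5 -/
def emb5 : Fin 5 ≃ {x : Fin 6 // x ≠ 5} := finSuccAboveEquiv (5 : Fin 6)

/-- the point stabilizer -/
noncomputable def iota : ↥(alternatingGroup (Fin 5)) →* ↥(alternatingGroup (Fin 6)) :=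
  ((Equiv.Perm.extendDomainHom emb5).comp (alternatingGroup (Fin 5)).subtype).codRestrict (alternatingGroup (Fin 6))
    (fun g => by
      rw [Equiv.Perm.mem_alternatingGroup]
      simp only [MonoidHom.coe_comp, Subgroup.coe_subtype, Function.comp_apply, Equiv.Perm.extendDomainHom_apply]
      rw [Equiv.Perm.sign_extendDomain]
      exact Equiv.Perm.mem_alternatingGroup.1 g.2)

theorem iota_coe (g : ↥(alternatingGroup (Fin 5))) :
    ((iota g : ↥(alternatingGroup (Fin 6))) : Perm (Fin 6)) = (g : Perm (Fin 5)).extendDomain emb5 := rfl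

theorem iota_injective : Function.Injective iota := by
  intro a b hab
  have h := congrArg (fun x : ↥(alternatingGroup (Fin 6)) => (x : Perm (Fin 6))) hab
  exact Subtype.ext (Equiv.Perm.extendDomainHom_injective emb5 h)

theorem iota_cycleType (g : ↥(alternatingGroup (Fin 5))) :
    ((iota g : ↥(alternatingGroup (Fin 6))) : Perm (Fin 6)).cycleType = (g : Perm (Fin 5)).cycleType := by
  rw [iota_coe, Equiv.Perm.cycleType_extendDomain]

theorem iota_fix (g : ↥(alternatingGroup (Fin 5))) : ((iota g : ↥(alternatingGroup (Fin 6))) : Perm (Fin 6)) 5 = 5 := by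
  rw [iota_coe, Equiv.Perm.extendDomain_apply_not_subtype]
  simp

theorem exists_iota {g : ↥(alternatingGroup (Fin 6))} (hg : (g : Perm (Fin 6)) 5 = 5) : ∃ g', iota g' = g := by
  have h : ∀ x : Fin 6, (g : Perm (Fin 6)) x ≠ 5 ↔ x ≠ 5 := by
    intro x
    rw [not_iff_not]
    constructor
    · intro hx
      exact (g : Perm (Fin 6)).injective (hx.trans hg.symm)
    · rintro rfl
      exact hg
  have key : ((emb5.permCongr.symm ((g : Perm (Fin 6)).subtypePerm h) : Perm (Fin 5))).extendDomain emb5 =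
      (g : Perm (Fin 6)) := by
    ext1 x
    by_cases hx : x ≠ 5
    · rw [Equiv.Perm.extendDomain_apply_subtype (p := fun y : Fin 6 => y ≠ 5) (b := x) _ _ hx]
      simp [Equiv.permCongr_apply, Equiv.permCongr_symm]
    · rw [Equiv.Perm.extendDomain_apply_not_subtype (p := fun y : Fin 6 => y ≠ 5) (b := x) _ _ hx]
      rw [ne_eq, not_not] at hx
      rw [hx, hg]
  refine ⟨⟨emb5.permCongr.symm ((g : Perm (Fin 6)).subtypePerm h), ?_⟩, ?_⟩
  · rw [Equiv.Perm.mem_alternatingGroup, ← Equiv.Perm.sign_extendDomain _ emb5, key]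
    exact Equiv.Perm.mem_alternatingGroup.1 g.2
  · apply Subtype.ext
    rw [iota_coe]
    exact key

theorem trans_two {i j k l : Fin 6} (hij : i ≠ j) (hkl : k ≠ l) :
    ∃ g : ↥(alternatingGroup (Fin 6)), (g : Perm (Fin 6)) i = k ∧ (g : Perm (Fin 6)) j = l := by
  have h4 := alternatingGroup.isMultiplyPretransitive (Fin 6)
  have h2 : MulAction.IsMultiplyPretransitive ↥(alternatingGroup (Fin 6)) (Fin 6) 2 :=
    MulAction.isMultiplyPretransitive_of_le (n := Nat.card (Fin 6) - 2) (by simp) (by simp)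
  rw [MulAction.is_two_pretransitive_iff] at h2
  obtain ⟨g, h⟩ := h2 hij hkl
  exact ⟨g, h⟩

theorem trans_one (i k : Fin 6) : ∃ g : ↥(alternatingGroup (Fin 6)), (g : Perm (Fin 6)) i = k := by
  obtain ⟨j, hj⟩ := exists_ne i
  obtain ⟨l, hl⟩ := exists_ne k
  obtain ⟨g, hg, -⟩ := trans_two hj.symm hl.symm
  exact ⟨g, hg⟩

end Cfsg.Agent.H541.SixTwo
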