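import Mathlib
import Cfsg.Agent.H952.F4.Defs2
import Cfsg.Agent.H541.SixTwo.Perm

/-!
# Representations of `A₆` with a vector fixed by the point stabilizer (helper541)
-/

set_option autoImplicit false

namespace Cfsg.Agent.H541.SixTwo

open Equiv Equiv.Perm Module
open Cfsg.Agent.H952.F4 (ev es)

/-- the alternating group of degree 6 -/
abbrev A6 : Type := ↥(alternatingGroup (Fin 6))
/-- the alternating group of degree 5 -/
abbrev A5 : Type := ↥(alternatingGroup (Fin 5))

/-! ### the form on fixed spaces -/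
section Fix

variable {F M G : Type*} [Field F] [AddCommGroup M] [Module F M] [Group G]

theorem mem_es (T : M →ₗ[F] M) (v : M) : v ∈ es T 1 ↔ T v = v := by
  rw [es, Module.End.mem_eigenspace_iff, one_smul]

theorem finrank_fix_orth [FiniteDimensional F M] (ρ : Representation F G M) (B : LinearMap.BilinForm F M)
    (hB0 : ∀ v, B v v = 0) (hB : ∀ v, (∀ w, B v w = 0) → v = 0) (hinv : ∀ g v w, B (ρ g v) (ρ g w) = B v w)
    {g : G} {m : ℕ} (hm : (m : F) ≠ 0) (hg : g ^ m = 1) (U : Submodule F M) (hU : ∀ v ∈ U, ρ g v ∈ U) :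
    finrank F ↥(es (ρ g) 1 ⊓ B.orthogonal U) + finrank F ↥(es (ρ g) 1 ⊓ U) = ev (ρ g) 1 := by
  classical
  have halt : B.IsAlt := hB0
  have hrefl : B.IsRefl := halt.isRefl
  set E : Submodule F M := es (ρ g) 1 with hE
  -- the averaging map
  set P : M →ₗ[F] M := (m : F)⁻¹ • ∑ i ∈ Finset.range m, ρ (g ^ i) with hP
  have hPapp : ∀ v, P v = (m : F)⁻¹ • ∑ i ∈ Finset.range m, ρ (g ^ i) v := by
    intro v
    rw [hP, LinearMap.smul_apply, LinearMap.sum_apply]
  have hPE : ∀ v, P v ∈ E := by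
    intro v
    rw [hE, mem_es, hPapp, map_smul, map_sum]
    congr 1
    have h1 : ∀ i, ρ g (ρ (g ^ i) v) = ρ (g ^ (i + 1)) v := by
      intro i
      rw [pow_succ', map_mul, Module.End.mul_apply]
    simp_rw [h1]
    have h2 : ∑ i ∈ Finset.range m, ρ (g ^ (i + 1)) v + ρ (g ^ 0) v =
        ∑ i ∈ Finset.range m, ρ (g ^ i) v + ρ (g ^ m) v := by
      rw [← Finset.sum_range_succ' (fun i => ρ (g ^ i) v) m, Finset.sum_range_succ]
    rw [hg, pow_zero] at h2
    exact add_right_cancel h2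
  have hfix : ∀ v ∈ E, ∀ i : ℕ, ρ (g ^ i) v = v := by
    intro v hv i
    rw [hE, mem_es] at hv
    induction i with
    | zero => simp
    | succ i ih => rw [pow_succ, map_mul, Module.End.mul_apply, hv, ih]
  have hBP : ∀ v ∈ E, ∀ u, B v (P u) = B v u := by
    intro v hv u
    rw [hPapp, map_smul, map_sum]
    have h1 : ∀ i ∈ Finset.range m, B v (ρ (g ^ i) u) = B v u := by
      intro i _
      conv_lhs => rw [← hfix v hv i]
      rw [hinv]
    rw [Finset.sum_congr rfl h1, Finset.sum_const, Finset.card_range, nsmul_eq_mul, smul_eq_mul, ← mul_assoc,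
      inv_mul_cancel₀ hm, one_mul]
  have hPU : ∀ u ∈ U, P u ∈ U := by
    intro u hu
    rw [hPapp]
    refine U.smul_mem _ (U.sum_mem fun i _ => ?_)
    have : ∀ i : ℕ, ρ (g ^ i) u ∈ U := by
      intro i
      induction i with
      | zero => simpa using hu
      | succ i ih => rw [pow_succ', map_mul, Module.End.mul_apply]; exact hU _ ih
    exact this i
  -- the restricted form
  set BE : LinearMap.BilinForm F ↥E := B.restrict E with hBE
  have hBEalt : BE.IsAlt := fun v => hB0 _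
  have hBErefl : BE.IsRefl := hBEalt.isRefl
  have hleft : ∀ v : ↥E, (∀ w : ↥E, BE v w = 0) → v = 0 := by
    intro v h
    apply Subtype.ext
    apply hB
    intro w
    rw [← hBP v.1 v.2 w]
    exact h ⟨P w, hPE w⟩
  have hnd : BE.Nondegenerate := by
    refine ⟨hleft, ?_⟩
    intro w h
    exact hleft w fun v => hBErefl _ _ (h v)
  have h1 := LinearMap.BilinForm.finrank_orthogonal hnd (U.comap E.subtype)
  have e1 : (U.comap E.subtype).map E.subtype = E ⊓ U := Submodule.map_comap_subtype _ _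
  have e2 : (BE.orthogonal (U.comap E.subtype)).map E.subtype = E ⊓ B.orthogonal U := by
    ext v
    constructor
    · rintro ⟨v', hv', rfl⟩
      refine ⟨v'.2, ?_⟩
      intro u hu
      apply hrefl
      change B v'.1 u = 0
      rw [← hBP v'.1 v'.2 u]
      apply hrefl
      exact hv' ⟨P u, hPE u⟩ (hPU u hu)
    · rintro ⟨hv, hv'⟩
      refine ⟨⟨v, hv⟩, ?_, rfl⟩
      intro u hu
      exact hv' u.1 hu
  have f1 : finrank F ↥(E ⊓ U) = finrank F ↥(U.comap E.subtype) := by
    rw [← e1]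
    exact Submodule.finrank_map_subtype_eq _ _
  have f2 : finrank F ↥(E ⊓ B.orthogonal U) = finrank F ↥(BE.orthogonal (U.comap E.subtype)) := by
    rw [← e2]
    exact Submodule.finrank_map_subtype_eq _ _
  have h3 : finrank F ↥(U.comap E.subtype) ≤ finrank F ↥E := Submodule.finrank_le _
  rw [f1, f2]
  unfold ev
  change _ = finrank F ↥E
  omega

end Fix

/-! ### the six vectors -/
section Orbit

variable {F M : Type*} [Field F] [AddCommGroup M] [Module F M] (τ : Representation F A6 M)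

/-- the six vectors -/
noncomputable def W (w : M) (i : Fin 6) : M := τ (Classical.choose (trans_one 5 i)) w

variable {τ} {w : M} (hfix : ∀ g : A6, (g : Perm (Fin 6)) 5 = 5 → τ g w = w)

include hfix in
theorem tau_W (g : A6) (i : Fin 6) : τ g (W τ w i) = W τ w ((g : Perm (Fin 6)) i) := by
  have h1 := Classical.choose_spec (trans_one 5 i)
  have h2 := Classical.choose_spec (trans_one 5 ((g : Perm (Fin 6)) i))
  unfold W
  set a := Classical.choose (trans_one 5 i)
  set b := Classical.choose (trans_one 5 ((g : Perm (Fin 6)) i))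
  have h3 : τ (b⁻¹ * (g * a)) w = w := hfix _ (by
    simp only [Subgroup.coe_mul, InvMemClass.coe_inv, Perm.coe_mul, Function.comp_apply, h1]
    rw [← h2]
    simp)
  calc τ g (τ a w) = τ (b * (b⁻¹ * (g * a))) w := by
        rw [mul_inv_cancel_left, map_mul, Module.End.mul_apply]
    _ = τ b w := by rw [map_mul, Module.End.mul_apply, h3]

include hfix in
theorem W_five : W τ w 5 = w := by
  have h1 := Classical.choose_spec (trans_one 5 5)
  exact hfix _ h1

variable (hτ : τ.invariants = ⊥) (hw : w ≠ 0)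

include hfix hτ in
theorem sum_W : ∑ i, W τ w i = 0 := by
  have h : ∑ i, W τ w i ∈ τ.invariants := by
    intro g
    rw [map_sum]
    simp_rw [tau_W hfix]
    exact Equiv.sum_comp (g : Perm (Fin 6)) (W τ w)
  rw [hτ] at h
  exact h

include hfix hτ hw in
theorem W_ne {i j : Fin 6} (hij : i ≠ j) : W τ w i ≠ W τ w j := by
  intro h
  have h2 : ∀ k l, W τ w k = W τ w l := by
    intro k l
    by_cases hkl : k = l
    · rw [hkl]
    · obtain ⟨g, hg1, hg2⟩ := trans_two hij hkl
      rw [← hg1, ← hg2, ← tau_W hfix, ← tau_W hfix, h]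
  have h3 : w ∈ τ.invariants := by
    intro g
    conv_lhs => rw [← W_five hfix]
    rw [tau_W hfix, h2 _ 5, W_five hfix]
  rw [hτ] at h3
  exact hw h3

/-- 0 → 2 → 1 → 0 -/
def gA : A6 := ⟨swap 0 2 * swap 2 1, by rw [Equiv.Perm.mem_alternatingGroup]; decide⟩

/-- 0 → 3 → 4 → 0 -/
def gB : A6 := ⟨swap 0 3 * swap 3 4, by rw [Equiv.Perm.mem_alternatingGroup]; decide⟩

include hfix hτ hw in
theorem rel_zero_one {a : Fin 6 → F} (ha : ∑ i, a i • W τ w i = 0) : a 0 = a 1 := by
  have e0 : (gA : Perm (Fin 6)) 0 = 2 := by decide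
  have e1 : (gA : Perm (Fin 6)) 1 = 0 := by decide
  have e2 : (gA : Perm (Fin 6)) 2 = 1 := by decide
  have e3 : (gA : Perm (Fin 6)) 3 = 3 := by decide
  have e4 : (gA : Perm (Fin 6)) 4 = 4 := by decide
  have e5 : (gA : Perm (Fin 6)) 5 = 5 := by decide
  have d0 : (gB : Perm (Fin 6)) 0 = 3 := by decide
  have d1 : (gB : Perm (Fin 6)) 1 = 1 := by decide
  have d2 : (gB : Perm (Fin 6)) 2 = 2 := by decide
  have h1 := congrArg (τ gA) ha
  rw [map_sum, map_zero] at h1
  simp only [map_smul, tau_W hfix] at h1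
  rw [Fin.sum_univ_six] at ha h1
  rw [e0, e1, e2, e3, e4, e5] at h1
  have h2 : (a 0 - a 1) • W τ w 0 + (a 1 - a 2) • W τ w 1 + (a 2 - a 0) • W τ w 2 = 0 := by
    rw [← sub_self (0 : M)]
    nth_rewrite 1 [← ha]
    rw [← h1]
    module
  have h3 := congrArg (τ gB) h2
  rw [map_zero] at h3
  simp only [map_add, map_smul, tau_W hfix] at h3
  rw [d0, d1, d2] at h3
  have h4 : (a 0 - a 1) • (W τ w 0 - W τ w 3) = 0 := by
    rw [← sub_self (0 : M)]
    nth_rewrite 1 [← h2]
    rw [← h3]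
    module
  rcases smul_eq_zero.1 h4 with h5 | h5
  · exact sub_eq_zero.1 h5
  · exact absurd (sub_eq_zero.1 h5) (W_ne hfix hτ hw (by decide))

include hfix hτ hw in
theorem rel_const {a : Fin 6 → F} (ha : ∑ i, a i • W τ w i = 0) (i j : Fin 6) : a i = a j := by
  by_cases hij : i = j
  · rw [hij]
  obtain ⟨g, hg0, hg1⟩ := trans_two (show (0 : Fin 6) ≠ 1 by decide) hij
  have h : ∑ k, a ((g : Perm (Fin 6)) k) • W τ w k = 0 := by
    have h1 := congrArg (τ g⁻¹) ha
    rw [map_sum, map_zero] at h1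
    simp only [map_smul, tau_W hfix] at h1
    rw [← Equiv.sum_comp (g : Perm (Fin 6))] at h1
    simpa using h1
  have := rel_zero_one hfix hτ hw h
  rwa [hg0, hg1] at this

/-! ### the element of order 5 -/

/-- 0 → 1 → 2 → 3 → 4 → 0 -/
def zA : A5 := ⟨swap 0 1 * swap 1 2 * swap 2 3 * swap 3 4, by rw [Equiv.Perm.mem_alternatingGroup]; decide⟩

/-- 0 → 2 → 1 → 0 -/
def tA : A5 := ⟨swap 0 1 * swap 0 2, by rw [Equiv.Perm.mem_alternatingGroup]; decide⟩

theorem orderOf_zA : orderOf zA = 5 :=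
  haveI : Fact (Nat.Prime 5) := ⟨by norm_num⟩
  orderOf_eq_prime (by decide) (by decide)

theorem orderOf_tA : orderOf tA = 3 :=
  haveI : Fact (Nat.Prime 3) := ⟨by norm_num⟩
  orderOf_eq_prime (by decide) (by decide)

theorem iota_zA : ((iota zA : A6) : Perm (Fin 6)) 0 = 1 ∧ ((iota zA : A6) : Perm (Fin 6)) 1 = 2 ∧
    ((iota zA : A6) : Perm (Fin 6)) 2 = 3 ∧ ((iota zA : A6) : Perm (Fin 6)) 3 = 4 ∧
    ((iota zA : A6) : Perm (Fin 6)) 4 = 0 ∧ ((iota zA : A6) : Perm (Fin 6)) 5 = 5 := by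
  rw [iota_coe]
  decide

theorem iota_tA : ((iota tA : A6) : Perm (Fin 6)) 3 = 3 ∧ ((iota tA : A6) : Perm (Fin 6)) 4 = 4 ∧
    ((iota tA : A6) : Perm (Fin 6)) 5 = 5 := by
  rw [iota_coe]
  decide

/-- the span of the six vectors -/
noncomputable def NN (τ : Representation F A6 M) (w : M) : Submodule F M := Submodule.span F (Set.range (W τ w))

include hfix in
theorem NN_inv (g : A6) {v : M} (hv : v ∈ NN τ w) : τ g v ∈ NN τ w := by
  rw [NN, Submodule.mem_span_range_iff_exists_fun] at hv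
  obtain ⟨a, rfl⟩ := hv
  rw [map_sum]
  refine Submodule.sum_mem _ fun i _ => ?_
  rw [map_smul, tau_W hfix]
  exact Submodule.smul_mem _ _ (Submodule.subset_span ⟨_, rfl⟩)

include hfix hτ hw in
theorem z_le [FiniteDimensional F M] : finrank F ↥(es (τ (iota zA)) 1 ⊓ NN τ w) ≤ 1 := by
  have h : es (τ (iota zA)) 1 ⊓ NN τ w ≤ Submodule.span F {W τ w 5} := by
    rintro v ⟨hv1, hv2⟩
    have hv1 := (mem_es _ _).1 hv1
    have hv2 : v ∈ Submodule.span F (Set.range (W τ w)) := hv2
    rw [Submodule.mem_span_range_iff_exists_fun] at hv2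
    obtain ⟨a, rfl⟩ := hv2
    obtain ⟨e0, e1, e2, e3, e4, e5⟩ := iota_zA
    rw [map_sum] at hv1
    simp only [map_smul, tau_W hfix] at hv1
    rw [Fin.sum_univ_six, Fin.sum_univ_six, e0, e1, e2, e3, e4, e5] at hv1
    have h2 : ∑ i, (![a 4 - a 0, a 0 - a 1, a 1 - a 2, a 2 - a 3, a 3 - a 4, 0] : Fin 6 → F) i • W τ w i = 0 := by
      rw [Fin.sum_univ_six]
      rw [← sub_eq_zero] at hv1
      simp only [Matrix.cons_val]
      rw [← hv1]
      module
    have h3 := rel_const hfix hτ hw h2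
    have h30 := h3 0 5
    have h31 := h3 1 5
    have h32 := h3 2 5
    have h33 := h3 3 5
    simp only [Matrix.cons_val] at h30 h31 h32 h33
    have i0 : a 4 = a 0 := sub_eq_zero.1 h30
    have i1 : a 1 = a 0 := (sub_eq_zero.1 h31).symm
    have i2 : a 2 = a 0 := (sub_eq_zero.1 h32).symm.trans i1
    have i3 : a 3 = a 0 := (sub_eq_zero.1 h33).symm.trans i2
    rw [Submodule.mem_span_singleton]
    refine ⟨a 5 - a 0, ?_⟩
    have hs := sum_W hfix hτ
    rw [Fin.sum_univ_six] at hs ⊢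
    rw [i0, i1, i2, i3]
    have : (a 5 - a 0) • W τ w 5 + a 0 • (W τ w 0 + W τ w 1 + W τ w 2 + W τ w 3 + W τ w 4 + W τ w 5) =
        a 0 • W τ w 0 + a 0 • W τ w 1 + a 0 • W τ w 2 + a 0 • W τ w 3 + a 0 • W τ w 4 + a 5 • W τ w 5 := by module
    rw [hs, smul_zero, add_zero] at this
    exact this
  exact (Submodule.finrank_mono h).trans ((finrank_span_le_card _).trans (by simp))

include hfix hτ hw in
theorem t_ge [FiniteDimensional F M] : 3 ≤ finrank F ↥(es (τ (iota tA)) 1 ⊓ NN τ w) := by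
  obtain ⟨e3, e4, e5⟩ := iota_tA
  have hli : LinearIndependent F ![W τ w 3, W τ w 4, W τ w 5] := by
    rw [Fintype.linearIndependent_iff]
    intro g hg
    rw [Fin.sum_univ_three] at hg
    simp only [Matrix.cons_val] at hg
    have h2 : ∑ i, (![0, 0, 0, g 0, g 1, g 2] : Fin 6 → F) i • W τ w i = 0 := by
      rw [Fin.sum_univ_six]
      simp only [Matrix.cons_val]
      rw [← hg]
      module
    have h3 := rel_const hfix hτ hw h2
    have h30 := h3 3 0
    have h31 := h3 4 0
    have h32 := h3 5 0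
    simp only [Matrix.cons_val] at h30 h31 h32
    intro i
    fin_cases i
    · exact h30
    · exact h31
    · exact h32
  have h1 := finrank_span_eq_card hli
  rw [Fintype.card_fin] at h1
  refine (show 3 = _ from h1.symm).le.trans ?_
  apply Submodule.finrank_mono
  rw [Submodule.span_le]
  rintro _ ⟨i, rfl⟩
  fin_cases i
  · exact ⟨(mem_es _ _).2 (by change τ (iota tA) (W τ w 3) = W τ w 3; rw [tau_W hfix, e3]),
      Submodule.subset_span ⟨3, rfl⟩⟩
  · exact ⟨(mem_es _ _).2 (by change τ (iota tA) (W τ w 4) = W τ w 4; rw [tau_W hfix, e4]),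
      Submodule.subset_span ⟨4, rfl⟩⟩
  · exact ⟨(mem_es _ _).2 (by change τ (iota tA) (W τ w 5) = W τ w 5; rw [tau_W hfix, e5]),
      Submodule.subset_span ⟨5, rfl⟩⟩

include hfix hτ in
theorem isotropic [CharP F 2] (B : LinearMap.BilinForm F M) (hB0 : ∀ v, B v v = 0)
    (hinv : ∀ g v w, B (τ g v) (τ g w) = B v w) (i j : Fin 6) : B (W τ w i) (W τ w j) = 0 := by
  by_cases hij : i = j
  · rw [hij, hB0]
  have hk : ∀ k l : Fin 6, k ≠ l → B (W τ w k) (W τ w l) = B (W τ w i) (W τ w j) := by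
    intro k l hkl
    obtain ⟨g, hg1, hg2⟩ := trans_two hij hkl
    rw [← hg1, ← hg2, ← tau_W hfix, ← tau_W hfix, hinv]
  have hs := congrArg (B (W τ w 5)) (sum_W hfix hτ)
  rw [Fin.sum_univ_six, map_zero] at hs
  simp only [map_add] at hs
  rw [hk 5 0 (by decide), hk 5 1 (by decide), hk 5 2 (by decide), hk 5 3 (by decide), hk 5 4 (by decide), hB0] at hs
  have h2 : (2 : F) = 0 := CharTwo.two_eq_zero
  linear_combination hs - 2 * B (W τ w i) (W τ w j) * h2

end Orbit

end Cfsg.Agent.H541.SixTwo
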