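import Mathlib
import Cfsg.Agent.H541.SixTwo.Core
import Cfsg.Agent.S1054
import Cfsg.Agent.S1062

/-!
# S5926, characteristic 2, degree 6: the proof from the results on which it rests (helper541)

`Deps` lists the results used (Scott's lemma, unipotent elements, the group algebra of `A₅`, generating pairs, the two
modules, no fixed vectors); `six_two_of` is the theorem.
-/

set_option autoImplicit false

namespace Cfsg.Agent.H541.SixTwo

open Equiv Equiv.Perm Module
open Cfsg.Lie Cfsg.Agent.H952.F4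

universe u

/-- the results used -/
structure Deps : Prop where
  scott_form : ∀ {K V : Type u} {G : Type} [Field K] [AddCommGroup V] [Module K V] [FiniteDimensional K V] [Group G]
    (ρ : Representation K G V) {x y : G} (_ : Subgroup.closure {x, y} = ⊤)
    (B : V →ₗ[K] V →ₗ[K] K) (_ : ∀ v, (∀ w, B v w = 0) → v = 0) (_ : ∀ g v w, B (ρ g v) (ρ g w) = B v w),
    ev (ρ x) 1 + ev (ρ y) 1 + ev (ρ (x * y)) 1 ≤ finrank K V + 2 * finrank K ρ.invariants
  le_mul_ev : ∀ {K V : Type u} [Field K] [AddCommGroup V] [Module K V] [FiniteDimensional K V] (p : ℕ)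
    [Fact p.Prime] [CharP K p] {T : Module.End K V} (_ : T ^ p = 1), finrank K V ≤ p * ev T 1
  five_le_three : ∀ {K V : Type u} [Field K] [CharP K 2] [AddCommGroup V] [Module K V] [FiniteDimensional K V]
    (ρ : Representation K ↥(alternatingGroup (Fin 5)) V) {z t : ↥(alternatingGroup (Fin 5))}
    (_ : orderOf z = 5) (_ : orderOf t = 3) (U W : Submodule K V) (_ : U ≤ W)
    (_ : ∀ g, ∀ v ∈ U, ρ g v ∈ U) (_ : ∀ g, ∀ v ∈ W, ρ g v ∈ W),
    finrank K ↥(es (ρ z) 1 ⊓ W) + finrank K ↥(es (ρ t) 1 ⊓ U) ≤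
      finrank K ↥(es (ρ z) 1 ⊓ U) + finrank K ↥(es (ρ t) 1 ⊓ W)
  gen5 : GenT 5 {2, 2} {3} {5}
  gen6a : GenT 6 {2, 2} {5} {5}
  gen6b : GenT 6 {3} {3, 3} {5}
  exists_pkg : ∀ (F : Type u) [Field F] [Finite F] [CharP F 2],
    ∃ (M N : Type u) (_ : AddCommGroup M) (_ : Module F M) (_ : AddCommGroup N) (_ : Module F N)
      (ρ : Representation F ↥(chevF4.group F) M) (σ : Representation F ↥(chevF4.group F) N), Pkg ρ σ
  no_fixed : ∀ {G : Type u} [Group G] [Finite G] [IsSimpleGroup G] {F V : Type u} [Field F] [Finite F]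
    [AddCommGroup V] [Module F V] [FiniteDimensional F V] {H : Subgroup G} {n : ℕ}
    {φ : ↥(alternatingGroup (Fin n)) →* G} (ρ : Representation F G V) (_ : ρ.invariants = ⊥) (_ : MaxAlt H n φ)
    (_ : 5 ≤ n) (_ : Nat.card ↥H * Nat.card F ^ finrank F V < Nat.card G * (Nat.card F - 1)),
    Representation.invariants (MonoidHom.comp ρ φ) = ⊥

/-! ### eigenspaces in characteristic 2 -/
section Ev

variable {F M G : Type*} [Field F] [AddCommGroup M] [Module F M] [Group G]

theorem ev_le_of_conj [FiniteDimensional F M] (ρ : Representation F G M) {x y g : G} {k : ℕ}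
    (h : g * x * g⁻¹ = y ^ k) : ev (ρ y) 1 ≤ ev (ρ x) 1 := by
  have hx : x = g⁻¹ * y ^ k * g := by rw [← h]; group
  have h1 : (es (ρ y) 1).map (ρ g⁻¹) ≤ es (ρ x) 1 := by
    rintro _ ⟨v, hv, rfl⟩
    have hv' : ρ y v = v := (mem_es _ _).1 hv
    rw [mem_es]
    have hk : ∀ n : ℕ, ρ (y ^ n) v = v := by
      intro n
      induction n with
      | zero => simp
      | succ n ih => rw [pow_succ, map_mul, Module.End.mul_apply, hv', ih]
    have : ρ x (ρ g⁻¹ v) = ρ (x * g⁻¹) v := by rw [map_mul, Module.End.mul_apply]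
    rw [this, hx, mul_assoc, mul_inv_cancel, mul_one, map_mul, Module.End.mul_apply, hk]
  have h2 : finrank F ↥((es (ρ y) 1).map (ρ g⁻¹)) = finrank F ↥(es (ρ y) 1) := by
    apply LinearEquiv.finrank_eq
    refine (Submodule.equivMapOfInjective _ ?_ _).symm
    intro a b hab
    have := congrArg (ρ g) hab
    rwa [← Module.End.mul_apply, ← Module.End.mul_apply, ← map_mul, mul_inv_cancel, map_one, Module.End.one_apply,
      Module.End.one_apply] at this
  calc ev (ρ y) 1 = finrank F ↥(es (ρ y) 1) := rfl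
    _ = _ := h2.symm
    _ ≤ finrank F ↥(es (ρ x) 1) := Submodule.finrank_mono h1
    _ = ev (ρ x) 1 := rfl

theorem ev_eq_of_five [FiniteDimensional F M] (τ : Representation F A6 M) {x y : A6} (hx : orderOf x = 5)
    (hy : orderOf y = 5) : ev (τ y) 1 = ev (τ x) 1 := by
  haveI : Fact (Nat.Prime 5) := ⟨by norm_num⟩
  have hcard : Nat.card A6 = 360 := by
    rw [nat_card_alternatingGroup]
    simp [Nat.factorial]
  have key : ∀ x y : A6, orderOf x = 5 → orderOf y = 5 → ev (τ y) 1 ≤ ev (τ x) 1 := by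
    intro x y hx hy
    have hf : (Nat.card A6).factorization 5 = 1 := by
      rw [hcard]
      rw [show (360 : ℕ) = 5 ^ 1 * 72 by norm_num, Nat.factorization_mul (by norm_num) (by norm_num)]
      rw [Nat.Prime.factorization_pow (by norm_num)]
      simp [Nat.factorization_eq_zero_of_not_dvd (show ¬ 5 ∣ 72 by norm_num)]
    let P : Sylow 5 A6 := Sylow.ofCard (Subgroup.zpowers x) (by rw [Nat.card_zpowers, hx, hf, pow_one])
    let Q : Sylow 5 A6 := Sylow.ofCard (Subgroup.zpowers y) (by rw [Nat.card_zpowers, hy, hf, pow_one])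
    obtain ⟨g, hg⟩ := MulAction.exists_smul_eq A6 P Q
    have h1 : g * x * g⁻¹ ∈ (Q : Subgroup A6) := by
      rw [← hg]
      refine ⟨x, Subgroup.mem_zpowers x, ?_⟩
      rfl
    have h2 : g * x * g⁻¹ ∈ Subgroup.zpowers y := h1
    rw [mem_zpowers_iff_mem_range_orderOf] at h2
    rw [Finset.mem_image] at h2
    obtain ⟨k, -, hk⟩ := h2
    exact ev_le_of_conj τ hk.symm
  exact le_antisymm (key _ _ hx hy) (key _ _ hy hx)

theorem ev_eq_of_three [FiniteDimensional F M] (τ : Representation F A6 M) {x y : A6}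
    (hx : (x : Perm (Fin 6)).cycleType = {3}) (hy : (y : Perm (Fin 6)).cycleType = {3}) :
    ev (τ y) 1 = ev (τ x) 1 := by
  have key : ∀ x y : A6, (x : Perm (Fin 6)).cycleType = {3} → (y : Perm (Fin 6)).cycleType = {3} →
      ev (τ y) 1 ≤ ev (τ x) 1 := by
    intro x y hx hy
    have h := alternatingGroup.isThreeCycle_isConj (α := Fin 6) (by simp) hx hy
    rw [isConj_iff] at h
    obtain ⟨g, hg⟩ := h
    exact ev_le_of_conj τ (g := g) (k := 1) (by rw [hg, pow_one])
  exact le_antisymm (key _ _ hx hy) (key _ _ hy hx)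

end Ev

/-! ### orders of elements -/
section Ord

theorem orderOf_of_cycleType {n : ℕ} {g : ↥(alternatingGroup (Fin n))} {s : Multiset ℕ}
    (h : (g : Perm (Fin n)).cycleType = s) : orderOf g = s.lcm := by
  rw [← h, Equiv.Perm.lcm_cycleType, Subgroup.orderOf_coe]

end Ord

/-! ### the contradiction -/

theorem core (D : Deps.{u}) {F M : Type u} [Field F] [CharP F 2] [AddCommGroup M] [Module F M] [FiniteDimensional F M]
    (τ : Representation F A6 M) (hτ : τ.invariants = ⊥) (B : M →ₗ[F] M →ₗ[F] F) (hB0 : ∀ v, B v v = 0)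
    (hB : ∀ v, (∀ w, B v w = 0) → v = 0) (hinv : ∀ g v w, B (τ g v) (τ g w) = B v w)
    (hdim : finrank F M = 26)
    (h2 : ∀ g : A6, orderOf g = 2 → 13 ≤ ev (τ g) 1)
    (h5 : ∀ g : A6, orderOf g = 5 → ev (τ g) 1 = 6)
    (h3 : ∀ g : A6, (g : Perm (Fin 6)).cycleType = {3} → ev (τ g) 1 = 8) : False := by
  obtain ⟨x, y, hxy, hx, hy, hz⟩ := D.gen5
  have hs := D.scott_form (τ.comp iota) hxy B hB (fun g v w => hinv _ _ _)
  have e1 : ev ((τ.comp iota) x) 1 = ev (τ (iota x)) 1 := rfl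
  have e2 : ev ((τ.comp iota) y) 1 = 8 := h3 (iota y) (by rw [iota_cycleType, hy])
  have e3 : ev ((τ.comp iota) (x * y)) 1 = 6 := h5 (iota (x * y)) (by
    rw [orderOf_of_cycleType (iota_cycleType (x * y)), hz]; rfl)
  have h13 := h2 (iota x) (by rw [orderOf_of_cycleType (iota_cycleType x), hx]; rfl)
  rw [e1, e2, e3, hdim] at hs
  have hpos : 0 < finrank F ↥(Representation.invariants (MonoidHom.comp τ iota)) := by omega
  haveI := Module.finrank_pos_iff.1 hpos
  obtain ⟨⟨w, hwi⟩, hw0⟩ := exists_ne (0 : ↥(Representation.invariants (MonoidHom.comp τ iota)))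
  have hw : w ≠ 0 := fun h => hw0 (Subtype.ext h)
  have hfix : ∀ g : A6, (g : Perm (Fin 6)) 5 = 5 → τ g w = w := by
    intro g hg
    obtain ⟨g', rfl⟩ := exists_iota hg
    exact hwi g'
  have h2F : (2 : F) = 0 := CharTwo.two_eq_zero
  have hz := finrank_fix_orth τ B hB0 hB hinv (g := iota zA) (m := 5)
    (by
      intro h
      push_cast at h
      have : (1 : F) = 0 := by linear_combination h - 2 * h2F
      exact one_ne_zero this)
    (by rw [← map_pow, show zA ^ 5 = 1 by decide, map_one]) (NN τ w) (fun v hv => NN_inv hfix _ hv)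
  have ht := finrank_fix_orth τ B hB0 hB hinv (g := iota tA) (m := 3)
    (by
      intro h
      push_cast at h
      have : (1 : F) = 0 := by linear_combination h - h2F
      exact one_ne_zero this)
    (by rw [← map_pow, show tA ^ 3 = 1 by decide, map_one]) (NN τ w) (fun v hv => NN_inv hfix _ hv)
  rw [h5 (iota zA) (by
    rw [orderOf_injective iota iota_injective, orderOf_zA])] at hz
  rw [h3 (iota tA) (by
    rw [iota_cycleType]
    exact isThreeCycle_swap_mul_swap_same (by decide) (by decide) (by decide))] at ht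
  have hiso : NN τ w ≤ LinearMap.BilinForm.orthogonal B (NN τ w) := by
    rw [NN, Submodule.span_le]
    rintro _ ⟨j, rfl⟩
    intro n hn
    change B n (W τ w j) = 0
    rw [Submodule.mem_span_range_iff_exists_fun] at hn
    obtain ⟨a, rfl⟩ := hn
    rw [map_sum, LinearMap.sum_apply]
    refine Finset.sum_eq_zero fun i _ => ?_
    rw [map_smul, LinearMap.smul_apply, isotropic hfix hτ B hB0 hinv, smul_zero]
  have hA := D.five_le_three (τ.comp iota) orderOf_zA orderOf_tA (NN τ w)
    (LinearMap.BilinForm.orthogonal B (NN τ w)) hiso (fun g v hv => NN_inv hfix _ hv)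
    (fun g v hv n hn => by
      change B n (τ (iota g) v) = 0
      have h1 : τ (iota g)⁻¹ n ∈ NN τ w := NN_inv hfix _ hn
      have h2 : B (τ (iota g)⁻¹ n) v = 0 := hv _ h1
      rw [← hinv (iota g), ← Module.End.mul_apply, ← map_mul, mul_inv_cancel, map_one, Module.End.one_apply] at h2
      exact h2)
  have q1 := z_le hfix hτ hw
  have q2 := t_ge hfix hτ hw
  have r1 : es ((τ.comp iota) zA) 1 = es (τ (iota zA)) 1 := rfl
  have r2 : es ((τ.comp iota) tA) 1 = es (τ (iota tA)) 1 := rfl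
  rw [r1, r2] at hA
  omega

/-! ### the theorem -/

variable {F : Type u} [Field F] [Finite F] {H : Subgroup ↥(chevF4.group F)}

theorem card_bound [CharP F 2] {φ : ↥(alternatingGroup (Fin 6)) →* ↥(chevF4.group F)} (hM : MaxAlt H 6 φ) :
    Nat.card ↥H * Nat.card F ^ 26 < Nat.card ↥(chevF4.group F) * (Nat.card F - 1) := by
  haveI := Fintype.ofFinite F
  have hc := Cfsg.Agent.S1062.result (F := F) rfl
  have hH : Nat.card ↥H ≤ 1440 := by simpa using hM.card
  have hq2 : 2 ≤ Nat.card F := Finite.one_lt_card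
  rw [hc, ← Nat.card_eq_fintype_card]
  generalize Nat.card F = q at *
  have key : ∀ k : ℕ, q ^ k ≤ q ^ (k + 1) - 1 := by
    intro k
    have h1 : 1 ≤ q ^ k := Nat.one_le_pow _ _ (by omega)
    have h2 : q ^ k * 2 ≤ q ^ (k + 1) := by
      rw [pow_succ]
      exact Nat.mul_le_mul_left _ hq2
    omega
  have h22 : 1440 < q ^ 22 := lt_of_lt_of_le (by norm_num) (Nat.pow_le_pow_left hq2 22)
  calc Nat.card ↥H * q ^ 26 ≤ 1440 * q ^ 26 := Nat.mul_le_mul_right _ hH
    _ < q ^ 22 * q ^ 26 := Nat.mul_lt_mul_of_pos_right h22 (by positivity)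
    _ = q ^ 24 * q ^ 1 * q ^ 5 * q ^ 7 * q ^ 11 * 1 := by ring
    _ ≤ q ^ 24 * (q ^ 2 - 1) * (q ^ 6 - 1) * (q ^ 8 - 1) * (q ^ 12 - 1) * (q - 1) := by
      refine Nat.mul_le_mul (Nat.mul_le_mul (Nat.mul_le_mul (Nat.mul_le_mul (Nat.mul_le_mul le_rfl (key 1)) (key 5))
        (key 7)) (key 11)) (by omega)

theorem six_two_of (D : Deps.{u}) [CharP F 2] {φ : ↥(alternatingGroup (Fin 6)) →* ↥(chevF4.group F)} (hM : MaxAlt H 6 φ) : False := by
  haveI hS : IsSimpleGroup ↥(chevF4.group F) := (Cfsg.Agent.S1054.result chevF4 (by simp)).1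
  obtain ⟨M, N, _, _, _, _, ρ, σ, P⟩ := D.exists_pkg F
  haveI : Fact (Nat.Prime 2) := ⟨Nat.prime_two⟩
  -- Scott for `A₆`
  have inv : ∀ (V : Type u) [AddCommGroup V] [Module F V] (ρ : Representation F ↥(chevF4.group F) V), Mod26 ρ →
      Representation.invariants (MonoidHom.comp ρ φ) = ⊥ := by
    intro V _ _ ρ h
    haveI := h.fin
    exact D.no_fixed ρ h.inv hM (by norm_num) (by rw [h.dim]; exact card_bound hM)
  have scott : ∀ (V : Type u) [AddCommGroup V] [Module F V] (ρ : Representation F ↥(chevF4.group F) V), Mod26 ρ →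
      ∀ x y : ↥(alternatingGroup (Fin 6)), Subgroup.closure {x, y} = ⊤ →
      ev (ρ (φ x)) 1 + ev (ρ (φ y)) 1 + ev (ρ (φ (x * y))) 1 ≤ 26 := by
    intro V _ _ ρ h x y hxy
    haveI := h.fin
    obtain ⟨B, -, hB, hinv⟩ := h.form
    have := D.scott_form (ρ.comp φ) hxy B hB (fun g v w => hinv _ _ _)
    rw [inv V ρ h, finrank_bot, h.dim] at this
    exact this
  have invol : ∀ (V : Type u) [AddCommGroup V] [Module F V] (ρ : Representation F ↥(chevF4.group F) V), Mod26 ρ →
      ∀ x : ↥(alternatingGroup (Fin 6)), orderOf x = 2 → 13 ≤ ev (ρ (φ x)) 1 := by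
    intro V _ _ ρ h x hx
    haveI := h.fin
    have h1 : (ρ (φ x)) ^ 2 = 1 := by
      rw [← map_pow, ← map_pow, ← hx, pow_orderOf_eq_one, map_one, map_one]
    have := D.le_mul_ev 2 h1
    rw [h.dim] at this
    omega
  have five : ∀ (V : Type u) [AddCommGroup V] [Module F V] (ρ : Representation F ↥(chevF4.group F) V), Mod26 ρ →
      ∀ x : ↥(alternatingGroup (Fin 6)), orderOf x = 5 → ev (ρ (φ x)) 1 < 8 := by
    intro V _ _ ρ h x hx
    by_contra hlt
    rw [not_lt] at hlt
    haveI := h.fin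
    obtain ⟨a, b, hab, ha, hb, hc⟩ := D.gen6a
    have h1 := scott V ρ h a b hab
    have h2 := invol V ρ h a (by rw [orderOf_of_cycleType ha]; rfl)
    have h3 : ev (ρ (φ b)) 1 = ev (ρ (φ x)) 1 :=
      ev_eq_of_five (ρ.comp φ) hx (by rw [orderOf_of_cycleType hb]; rfl)
    have h4 : ev (ρ (φ (a * b))) 1 = ev (ρ (φ x)) 1 :=
      ev_eq_of_five (ρ.comp φ) hx (by rw [orderOf_of_cycleType hc]; rfl)
    omega
  haveI := P.m.fin
  have h5 : ∀ x : ↥(alternatingGroup (Fin 6)), orderOf x = 5 → ev (ρ (φ x)) 1 = 6 := by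
    intro x hx
    rcases P.five (φ x) (by
        intro h
        rw [← map_one φ] at h
        rw [hM.inj h, orderOf_one] at hx
        omega) (by rw [← map_pow, ← hx, pow_orderOf_eq_one, map_one]) with h | h | h
    · exact absurd (five M ρ P.m x hx) (not_lt.2 h)
    · exact absurd (five N σ P.n x hx) (not_lt.2 h)
    · exact h.1
  have h3' : ∀ x : ↥(alternatingGroup (Fin 6)), orderOf x = 3 → ev (ρ (φ x)) 1 = 8 ∨ ev (ρ (φ x)) 1 = 14 := by
    intro x hx
    exact P.three (φ x) (by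
        intro h
        rw [← map_one φ] at h
        rw [hM.inj h, orderOf_one] at hx
        omega) (by rw [← map_pow, ← hx, pow_orderOf_eq_one, map_one])
  obtain ⟨a, b, hab, ha, hb, hc⟩ := D.gen6b
  have h1 := scott M ρ P.m a b hab
  have h2 := h5 (a * b) (by rw [orderOf_of_cycleType hc]; rfl)
  have h3a := h3' a (by rw [orderOf_of_cycleType ha]; rfl)
  have h3b := h3' b (by rw [orderOf_of_cycleType hb]; rfl)
  have h3 : ∀ x : ↥(alternatingGroup (Fin 6)), (x : Perm (Fin 6)).cycleType = {3} → ev (ρ (φ x)) 1 = 8 := by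
    intro x hx
    have : ev (ρ (φ x)) 1 = ev (ρ (φ a)) 1 := ev_eq_of_three (ρ.comp φ) ha hx
    omega
  obtain ⟨B, hB0, hB, hinv⟩ := P.m.form
  exact core D (ρ.comp φ) (inv M ρ P.m) B hB0 hB (fun g v w => hinv _ _ _) P.m.dim (fun g hg => invol M ρ P.m g hg)
    (fun g hg => h5 g hg) (fun g hg => h3 g hg)

end Cfsg.Agent.H541.SixTwo
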